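import Cfsg.Agent.H773.Pw.Spor
import Cfsg.Agent.H474.ONC.End
import Cfsg.Agent.H981.SCON
import Cfsg.Agent.BpSpor.ONanThree

/-!
# S2454, the O'Nan group (helper759)

`pw_on` : every element is a product of 70 `p`-elements.

* `p = 11, 19, 31` : the elements of order `p` generate their centralizers;
* `p = 2, 3, 5` : elements of order 11 (normalized by elements of order 10) and 19 (of order 6), taken in `J₁`;
* `p = 7` : an element of order 19 of `L₃(7)` is a product of two unipotent elements.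
-/

set_option autoImplicit false
set_option maxRecDepth 100000

namespace Cfsg.Agent.H759.Pw.ON

open Cfsg Subgroup Cfsg.Agent.H514.DP Cfsg.Agent.H773.Pw
open Cfsg.Spor (ON)
open Cfsg.Agent.KFacts.ON.Cent (hON finite_ON)

universe u

theorem card_on : Nat.card ON = 460815505920 := hON.2

/-- the centralizers of the elements of order 19 -/
theorem cent_nineteen {y : ON} (hy : orderOf y = 19) : Nat.card (centralizer ({y} : Set ON)) = 19 := by
  have hfin := finite_ON
  have h19F : Fact (Nat.Prime 19) := ⟨by norm_num⟩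
  obtain ⟨x, hx, hc⟩ := H474.ONC.exists_nineteen
  rw [H474.ONC.card_cent_eq (by rw [card_on]; norm_num) hy hx, hc]

theorem exists_conj {p m : ℕ} (hp : p = 7 ∨ p = 11 ∨ p = 19) (hcop : p.Coprime m)
    (h : ∃ y w : Spor.J1, orderOf y = p ∧ orderOf w = m ∧ w * y * w⁻¹ ∈ zpowers y) {q k : ℕ} (hq : q.Prime)
    (hqp : q ≠ p) (hm : m = k * q) (hk : 0 < k)
    (hc : ∀ y : ON, orderOf y = p → Nat.card (centralizer ({y} : Set ON)) = p) (hpp : p.Prime) :
    ∃ y : ON, orderOf y = p ∧ PE q 2 y := by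
  have hfin := finite_ON
  obtain ⟨y, w, hy, hw, h1, -⟩ := H474.ONC.of_J1 hp hcop h
  refine ⟨y, hy, ?_⟩
  have hz : orderOf (w ^ k) = q := by
    rw [orderOf_pow_of_dvd hk.ne' (by rw [hw, hm]; exact dvd_mul_right _ _), hw, hm, Nat.mul_div_cancel_left _ hk]
  refine pe_two_of_normalizes (z := w ^ k) (IsPE.of_prime hz) (by rw [hy]; exact hpp) ?_ ?_
  · have h2 : ∀ j : ℕ, w ^ j * y * (w ^ j)⁻¹ ∈ zpowers y := by
      intro j
      induction j with
      | zero => simp
      | succ j ih =>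
        obtain ⟨i, hi⟩ := ih
        have hi' : y ^ i = w ^ j * y * (w ^ j)⁻¹ := hi
        have h3 : w ^ (j + 1) * y * (w ^ (j + 1))⁻¹ = (w * y * w⁻¹) ^ i := by
          rw [conj_zpow, hi', pow_succ' w j]
          group
        rw [h3]
        exact zpow_mem h1 i
    exact h2 k
  · intro hcomm
    have h3 := orderOf_dvd_natCard (⟨w ^ k, mem_centralizer_singleton_iff.2 hcomm⟩ : centralizer ({y} : Set ON))
    rw [Subgroup.orderOf_mk, hc y hy, hz] at h3
    exact hqp ((Nat.prime_dvd_prime_iff_eq hq hpp).1 h3)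

/-! ### `L₃(7)` -/

open Matrix in
def MA : SpecialLinearGroup (Fin 3) (ZMod 7) := ⟨!![1, 0, 1; 0, 1, 0; 0, 0, 1], by decide⟩

open Matrix in
def MB : SpecialLinearGroup (Fin 3) (ZMod 7) := ⟨!![1, 0, 0; 1, 1, 0; 1, 1, 1], by decide⟩

theorem MA_pow : MA ^ 7 = 1 := by
  apply Subtype.ext
  rw [Matrix.SpecialLinearGroup.coe_pow, Matrix.SpecialLinearGroup.coe_one]
  decide +kernel

theorem MB_pow : MB ^ 7 = 1 := by
  apply Subtype.ext
  rw [Matrix.SpecialLinearGroup.coe_pow, Matrix.SpecialLinearGroup.coe_one]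
  decide +kernel

theorem MAB_pow : (MA * MB) ^ 19 = 1 := by
  apply Subtype.ext
  rw [Matrix.SpecialLinearGroup.coe_pow, Matrix.SpecialLinearGroup.coe_one, Matrix.SpecialLinearGroup.coe_mul]
  decide +kernel

theorem MAB_notMem : MA * MB ∉ center (Matrix.SpecialLinearGroup (Fin 3) (ZMod 7)) := by
  intro h
  have h1 := (mem_center_iff.1 h) MA
  have h2 := congrArg (fun M : Matrix.SpecialLinearGroup (Fin 3) (ZMod 7) =>
    (M : Matrix (Fin 3) (Fin 3) (ZMod 7))) h1
  revert h2
  simp only [Matrix.SpecialLinearGroup.coe_mul]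
  decide +kernel

theorem exists_hom : ∃ g : Matrix.SpecialLinearGroup (Fin 3) (ZMod 7) →* ON,
    ∀ x, g x = 1 → x ∈ center (Matrix.SpecialLinearGroup (Fin 3) (ZMod 7)) := by
  obtain ⟨N, -, -, ⟨e⟩⟩ := S1693.result
  let q : Matrix.SpecialLinearGroup (Fin 3) (ZMod 7) →* Matrix.ProjectiveSpecialLinearGroup (Fin 3) (ZMod 7) :=
    QuotientGroup.mk' _
  refine ⟨(Subgroup.subtype _).comp (N.subtype.comp (e.symm.toMonoidHom.comp q)), ?_⟩
  intro x hx
  have h1 : e.symm (q x) = 1 := Subtype.ext (Subtype.ext hx)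
  have h2 : q x = 1 := by
    rw [← map_one e.symm] at h1
    exact e.symm.injective h1
  exact (QuotientGroup.eq_one_iff _).1 h2

theorem exists_seven : ∃ y : ON, orderOf y = 19 ∧ PE 7 2 y := by
  obtain ⟨g, hg⟩ := exists_hom
  refine ⟨g (MA * MB), ?_, ?_⟩
  · have : Fact (Nat.Prime 19) := ⟨by norm_num⟩
    refine orderOf_eq_prime ?_ fun h => MAB_notMem (hg _ h)
    rw [← map_pow, MAB_pow, map_one]
  · rw [map_mul]
    have h1 : IsPE 7 (g MA) := ⟨1, by rw [pow_one, ← map_pow, MA_pow, map_one]⟩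
    have h2 : IsPE 7 (g MB) := ⟨1, by rw [pow_one, ← map_pow, MB_pow, map_one]⟩
    exact h1.pe.mul h2.pe

/-- the primes -/
theorem prime_cases {p : ℕ} (hp : p.Prime) (hd : p ∣ 460815505920) :
    p = 2 ∨ p = 3 ∨ p = 5 ∨ p = 7 ∨ p = 11 ∨ p = 19 ∨ p = 31 := by
  rw [show (460815505920 : ℕ) = 2 ^ 9 * 3 ^ 4 * 5 * 7 ^ 3 * 11 * 19 * 31 by norm_num] at hd
  simp only [Nat.Prime.dvd_mul hp] at hd
  have key : ∀ {q k : ℕ}, q.Prime → p ∣ q ^ k → p = q := fun hq h =>
    (Nat.prime_dvd_prime_iff_eq hp hq).1 (hp.dvd_of_dvd_pow h)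
  have key1 : ∀ {q : ℕ}, q.Prime → p ∣ q → p = q := fun hq h => (Nat.prime_dvd_prime_iff_eq hp hq).1 h
  rcases hd with (((((h | h) | h) | h) | h) | h) | h
  · exact Or.inl (key (by norm_num) h)
  · exact Or.inr (Or.inl (key (by norm_num) h))
  · exact Or.inr (Or.inr (Or.inl (key1 (by norm_num) h)))
  · exact Or.inr (Or.inr (Or.inr (Or.inl (key (by norm_num) h))))
  · exact Or.inr (Or.inr (Or.inr (Or.inr (Or.inl (key1 (by norm_num) h)))))
  · exact Or.inr (Or.inr (Or.inr (Or.inr (Or.inr (Or.inl (key1 (by norm_num) h))))))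
  · exact Or.inr (Or.inr (Or.inr (Or.inr (Or.inr (Or.inr (key1 (by norm_num) h))))))

theorem pw_model [IsSimpleGroup ON] {p : ℕ} (hp : p.Prime) (hd : p ∣ Nat.card ON) : PW p 70 ON := by
  have hfin := finite_ON
  have h31 : Nat.Prime 31 := by norm_num
  have hna : ¬ ∀ a b : ON, a * b = b * a :=
    H253.TC.not_comm_of_card card_on (by norm_num) h31 (by norm_num) (by norm_num)
  have hD : MinDeg ON 16 := minDeg_of_prime card_on (by norm_num) h31 (by norm_num) (by norm_num) (by norm_num)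
    (by norm_num) (by norm_num) (by norm_num)
  have h11 : ∀ y : ON, orderOf y = 11 → Nat.card (centralizer ({y} : Set ON)) = 11 :=
    fun y hy => H474.ONC.card_cent_eleven hy
  rw [card_on] at hd
  rcases prime_cases hp hd with rfl | rfl | rfl | rfl | rfl | rfl | rfl
  · obtain ⟨y, hy, h2⟩ := exists_conj (p := 11) (m := 10) (q := 2) (k := 5) (by norm_num) (by norm_num)
      H389.JFacts.frob_eleven (by norm_num) (by norm_num) (by norm_num) (by norm_num) h11 (by norm_num)
    exact pw_of_pe hna h2 hD (h11 y hy).le (k := 6) (by norm_num) (by norm_num) (by norm_num)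
  · obtain ⟨y, hy, h2⟩ := exists_conj (p := 19) (m := 6) (q := 3) (k := 2) (by norm_num) (by norm_num)
      H389.JFacts.frob_nineteen (by norm_num) (by norm_num) (by norm_num) (by norm_num)
      (fun y hy => cent_nineteen hy) (by norm_num)
    exact pw_of_pe hna h2 hD (cent_nineteen hy).le (k := 6) (by norm_num) (by norm_num) (by norm_num)
  · obtain ⟨y, hy, h2⟩ := exists_conj (p := 11) (m := 10) (q := 5) (k := 2) (by norm_num) (by norm_num)
      H389.JFacts.frob_eleven (by norm_num) (by norm_num) (by norm_num) (by norm_num) h11 (by norm_num)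
    exact pw_of_pe hna h2 hD (h11 y hy).le (k := 6) (by norm_num) (by norm_num) (by norm_num)
  · obtain ⟨y, hy, h2⟩ := exists_seven
    exact pw_of_pe hna h2 hD (cent_nineteen hy).le (k := 6) (by norm_num) (by norm_num) (by norm_num)
  · exact pw_of_order hna (by norm_num) (by rw [card_on]; norm_num) hD (c := 11) (fun y hy => (h11 y hy).le) (k := 6)
      (by norm_num) (by norm_num) (by norm_num)
  · exact pw_of_order hna (by norm_num) (by rw [card_on]; norm_num) hD (c := 19) (fun y hy => (cent_nineteen hy).le)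
      (k := 6) (by norm_num) (by norm_num) (by norm_num)
  · exact pw_of_order hna (by norm_num) (by rw [card_on]; norm_num) hD (c := 31)
      (fun y hy => (Cfsg.Agent.H981.SCON.sc_on y hy).le) (k := 6) (by norm_num) (by norm_num) (by norm_num)

/-- **S2454, the O'Nan group.** -/
theorem pw_on {S : Type*} [Group S] [Finite S] [IsSimpleGroup S] (h : Spor.IsoON S) {p : ℕ} (hp : p.Prime)
    (hd : p ∣ Nat.card S) : PW p 70 S := by
  obtain ⟨e⟩ := h
  have hn : Nontrivial ON := e.symm.toEquiv.nontrivial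
  have : IsSimpleGroup ON := IsSimpleGroup.isSimpleGroup_of_surjective e.toMonoidHom e.surjective
  exact (pw_model hp (Nat.card_congr e.toEquiv ▸ hd)).congr e.symm

end Cfsg.Agent.H759.Pw.ON
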